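import Groth.Agent.DRingLib.TorBalance
import Mathlib.Algebra.Homology.Embedding.ExtendHomology
import Mathlib.CategoryTheory.Monoidal.Tor

/-! The two ways of computing `Tor` give isomorphic modules. -/

set_option autoImplicit false
set_option linter.style.haveILetI false

universe v v' u u'

open CategoryTheory CategoryTheory.Limits HomologicalComplex

namespace TorBalLib

variable {C : Type u} [Category.{v} C] [Abelian C] {D : Type u'} [Category.{v'} D] [Abelian D]
  (S : C ⥤ D) [S.Additive]

theorem conj_comm {E : Type u'} [Category.{v'} E] {X X' Y Y' W Z : E} (a : X ⟶ Y) (b : W ≅ Y)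
    (d : Y ⟶ Y') (c : Z ≅ Y') (a'' : Y' ⟶ X') (a' : X' ⟶ Y') (h : a'' ≫ a' = 𝟙 Y') :
    (a ≫ b.inv) ≫ b.hom ≫ d ≫ c.inv = (a ≫ d ≫ a'') ≫ a' ≫ c.inv := by
  simp only [Category.assoc, Iso.inv_hom_id_assoc]
  rw [reassoc_of% h]

noncomputable def mapExtendXIso (K : ChainComplex C ℕ) (n : ℤ) :
    S.obj ((K.extend ComplexShape.embeddingDownNat).X n) ≅
      (((S.mapHomologicalComplex _).obj K).extend ComplexShape.embeddingDownNat).X n :=
  if h : n ≤ 0 then
    S.mapIso (K.extendXIso ComplexShape.embeddingDownNat (i := (-n).toNat) (by simp; lia)) ≪≫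
      (((S.mapHomologicalComplex _).obj K).extendXIso ComplexShape.embeddingDownNat (i := (-n).toNat)
        (by simp; lia)).symm
  else
    (S.map_isZero (K.isZero_extend_X ComplexShape.embeddingDownNat n (by intro i hi; simp at hi; lia))).iso
      (((S.mapHomologicalComplex _).obj K).isZero_extend_X ComplexShape.embeddingDownNat n
        (by intro i hi; simp at hi; lia))

/-- Extension by zero along `ℕ → ℤ` (downwards) commutes with additive functors. -/
noncomputable def mapExtendIso (K : ChainComplex C ℕ) :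
    (S.mapHomologicalComplex _).obj (K.extend ComplexShape.embeddingDownNat) ≅
      ((S.mapHomologicalComplex _).obj K).extend ComplexShape.embeddingDownNat :=
  HomologicalComplex.Hom.isoOfComponents (mapExtendXIso S K) (by
    rintro n _ rfl
    by_cases h : n + 1 ≤ 0
    · have h' : n ≤ 0 := by lia
      have hi : ComplexShape.embeddingDownNat.f (-n).toNat = n := by simp; lia
      have hj : ComplexShape.embeddingDownNat.f (-(n + 1)).toNat = n + 1 := by simp; lia
      simp only [mapExtendXIso, dif_pos h', dif_pos h, Functor.mapHomologicalComplex_obj_d,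
        K.extend_d_eq ComplexShape.embeddingDownNat hi hj,
        HomologicalComplex.extend_d_eq _ ComplexShape.embeddingDownNat hi hj]
      simp only [S.map_comp, Iso.trans_hom, Iso.symm_hom, Functor.mapIso_hom]
      exact conj_comm _ _ _ _ _ _ ((S.map_comp _ _).symm.trans
        ((congrArg S.map (Iso.inv_hom_id _)).trans (S.map_id _)))
    · exact (((S.mapHomologicalComplex _).obj K).isZero_extend_X ComplexShape.embeddingDownNat (n + 1)
        (by intro i hi; simp at hi; lia)).eq_of_tgt _ _)

theorem nonempty_homology_mapExtend {X : C} (P : ProjectiveResolution X) (k : ℕ) :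
    Nonempty (((S.mapHomologicalComplex (ComplexShape.up ℤ)).obj P.cochainComplex).homology (-(k : ℤ)) ≅
      ((S.mapHomologicalComplex (ComplexShape.down ℕ)).obj P.complex).homology k) :=
  ⟨(HomologicalComplex.homologyFunctor D (ComplexShape.up ℤ) (-(k : ℤ))).mapIso (mapExtendIso S P.complex) ≪≫
    HomologicalComplex.extendHomologyIso ((S.mapHomologicalComplex _).obj P.complex)
      ComplexShape.embeddingDownNat (j := k) (j' := -(k : ℤ)) (by simp)⟩

open MonoidalCategory Groth.Agent.DRingLib in
/-- Balancing. -/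
theorem nonempty_tor_iso {R : Type u} [CommRing R] (M N : ModuleCat.{u} R)
    (P : ProjectiveResolution M) (n : ℕ) :
    Nonempty (((CategoryTheory.Tor (ModuleCat.{u} R) n).obj M).obj N ≅
      (((tensorRight N).mapHomologicalComplex (ComplexShape.down ℕ)).obj P.complex).homology n) := by
  let Q := projectiveResolution N
  obtain ⟨eM⟩ := nonempty_singleTensorIso M Q.cochainComplex
  obtain ⟨eN⟩ := nonempty_singleTensorIso N P.cochainComplex
  let N₀ := (CochainComplex.singleFunctor (ModuleCat.{u} R) 0).obj N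
  have q₁ : QuasiIso (KFlatLib.tMap P.π' (𝟙 Q.cochainComplex)) :=
    KFlatLib.quasiIso_tMap_right (isKFlat_projectiveResolution Q) P.π'
  have q₂ : QuasiIso (KFlatLib.tMap (𝟙 P.cochainComplex) Q.π') :=
    KFlatLib.quasiIso_tMap_left (isKFlat_projectiveResolution P) Q.π'
  have i₁ : IsIso (homologyMap (KFlatLib.tMap P.π' (𝟙 Q.cochainComplex)) (-(n : ℤ))) :=
    (quasiIsoAt_iff_isIso_homologyMap _ _).mp (q₁.quasiIsoAt _)
  have i₂ : IsIso (homologyMap (KFlatLib.tMap (𝟙 P.cochainComplex) Q.π') (-(n : ℤ))) :=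
    (quasiIsoAt_iff_isIso_homologyMap _ _).mp (q₂.quasiIsoAt _)
  let H := HomologicalComplex.homologyFunctor (ModuleCat.{u} R) (ComplexShape.up ℤ) (-(n : ℤ))
  let eT : KFlatLib.tensorN P.cochainComplex N ≅ KFlatLib.tT P.cochainComplex N₀ :=
    ((NatIso.mapHomologicalComplex (BraidedCategory.tensorLeftIsoTensorRight N)
      (ComplexShape.up ℤ)).app P.cochainComplex).symm ≪≫ eN.symm ≪≫
        KFlatLib.tensorFlipIso P.cochainComplex N₀
  let e := H.mapIso eT ≪≫ (@asIso _ _ _ _ _ i₂).symm ≪≫ (@asIso _ _ _ _ _ i₁) ≪≫ H.mapIso eM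
  obtain ⟨eQ⟩ := nonempty_homology_mapExtend (tensorLeft M) Q n
  obtain ⟨eP⟩ := nonempty_homology_mapExtend (tensorRight N) P n
  exact ⟨Q.isoLeftDerivedObj (tensorLeft M) n ≪≫ eQ.symm ≪≫ e.symm ≪≫ eP⟩

end TorBalLib
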